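import Groth.Agent.SemiGlue.Basic
import Mathlib.AlgebraicGeometry.Morphisms.OpenImmersion
import Mathlib.Algebra.Category.Ring.Constructions

/-! Gluing one-dimensional semilocal subrings of a field. -/

namespace SemiGlue

open Ideal CategoryTheory AlgebraicGeometry

universe u

variable {K : Type u} [Field K] {ι : Type*} [Finite ι] {A : ι → Subring K} {R : Subring K}

/-- Separating elements for a family. -/
structure Sep (A : ι → Subring K) (R : Subring K) where
  good : ∀ i, Good (A i)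
  mem_iff : ∀ z, z ∈ R ↔ ∀ i, z ∈ A i
  a : ι → K
  mem : ∀ i, a i ∈ R
  inv_mem : ∀ i, (a i)⁻¹ ∈ A i
  ne_zero : ∀ i, a i ≠ 0
  rad : ∀ i k, k ≠ i → ∀ h : a i ∈ A k, ∀ m : Ideal (A k), m.IsMaximal → (⟨a i, h⟩ : A k) ∈ m

theorem exists_sep (hA : ∀ i, Good (A i)) (hgen : ∀ i j, i ≠ j → A i ⊔ A j = ⊤)
    (hR : ∀ z, z ∈ R ↔ ∀ i, z ∈ A i) : Nonempty (Sep A R) := by
  choose a h1 h2 h3 h4 using fun i => (hA i).exists_separating (fun k : {k // k ≠ i} => A k.1)
    (fun k => hA k.1) (fun k => hgen i k.1 k.2.symm)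
  refine ⟨⟨hA, hR, a, fun i => (hR _).mpr fun k => ?_, h2, h3, fun i k hk h m hm => ?_⟩⟩
  · by_cases hk : k = i
    · exact hk ▸ h1 i
    · exact (h4 i ⟨k, hk⟩).1
  · exact (h4 i ⟨k, hk⟩).2 m hm

namespace Sep

variable (S : Sep A R)

include S in
theorem le (i : ι) : R ≤ A i := fun z hz => (S.mem_iff z).mp hz i

/-- The separating element as an element of `R`. -/
def elt (i : ι) : R := ⟨S.a i, S.mem i⟩

theorem isUnit_elt (i : ι) : IsUnit (Subring.inclusion (S.le i) (S.elt i)) :=
  isUnit_iff_exists_inv.mpr ⟨⟨_, S.inv_mem i⟩, Subtype.ext (mul_inv_cancel₀ (S.ne_zero i))⟩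

theorem exists_pow_mem (i : ι) {z : K} (hz : z ∈ A i) : ∃ n, z * S.a i ^ n ∈ R := by
  classical
  haveI := Fintype.ofFinite ι
  have h : ∀ k, ∃ n, z * S.a i ^ n ∈ A k := fun k => by
    by_cases hk : k = i
    · exact ⟨0, by rw [hk, pow_zero, mul_one]; exact hz⟩
    · exact (S.good k).exists_pow_mul_mem (S.le k (S.mem i)) (S.rad i k hk _) z
  choose n hn using h
  refine ⟨Finset.univ.sup n, (S.mem_iff _).mpr fun k => ?_⟩
  obtain ⟨d, hd⟩ := Nat.exists_eq_add_of_le (Finset.le_sup (f := n) (Finset.mem_univ k))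
  rw [hd, pow_add, ← mul_assoc]
  exact (A k).mul_mem (hn k) ((A k).pow_mem (S.le k (S.mem i)) d)

theorem away (i : ι) :
    @IsLocalization.Away R _ (S.elt i) (A i) _ (Subring.inclusion (S.le i)).toAlgebra := by
  letI := (Subring.inclusion (S.le i)).toAlgebra
  refine IsLocalization.Away.mk (S.elt i) (S.isUnit_elt i) (fun z => ?_) (fun x y h => ⟨0, ?_⟩)
  · obtain ⟨n, hn⟩ := S.exists_pow_mem i z.2
    exact ⟨n, ⟨_, hn⟩, Subtype.ext rfl⟩
  · rw [Subring.inclusion_injective (S.le i) h]

theorem isOpenImmersion (i : ι) :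
    IsOpenImmersion (Spec.map (CommRingCat.ofHom (Subring.inclusion (S.le i)))) := by
  letI := (Subring.inclusion (S.le i)).toAlgebra
  haveI := S.away i
  exact IsOpenImmersion.of_isLocalization (S := A i) (S.elt i)

theorem range_eq (i : ι) :
    Set.range (Spec.map (CommRingCat.ofHom (Subring.inclusion (S.le i)))).base =
      (PrimeSpectrum.basicOpen (S.elt i) : Set (PrimeSpectrum R)) := by
  letI := (Subring.inclusion (S.le i)).toAlgebra
  haveI := S.away i
  exact PrimeSpectrum.localization_away_comap_range (A i) (S.elt i)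

include S in
theorem exists_notMem [Nonempty ι] (p : Ideal R) (hp : p.IsPrime) : ∃ i, S.elt i ∉ p := by
  classical
  haveI := Fintype.ofFinite ι
  by_contra hcon
  push Not at hcon
  let s : R := ∑ i, S.elt i
  have hs : ∀ k, IsUnit (Subring.inclusion (S.le k) s) := fun k => by
    by_contra h
    obtain ⟨m, hm, hle⟩ := Ideal.exists_le_maximal _ (mt Ideal.span_singleton_eq_top.mp h)
    have hsm := hle (Ideal.subset_span rfl)
    have hrest : (∑ i ∈ Finset.univ.erase k, Subring.inclusion (S.le k) (S.elt i)) ∈ m :=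
      m.sum_mem fun i hi => S.rad i k (Finset.ne_of_mem_erase hi).symm _ m hm
    simp only [s, map_sum] at hsm
    rw [← Finset.add_sum_erase _ _ (Finset.mem_univ k)] at hsm
    exact hm.ne_top (m.eq_top_of_isUnit_mem ((m.add_mem_iff_left hrest).mp hsm) (S.isUnit_elt k))
  have hinv : ∀ k, (s : K)⁻¹ ∈ A k := fun k => by
    obtain ⟨w, hw⟩ := isUnit_iff_exists_inv.mp (hs k)
    have : (s : K) * w = 1 := congrArg Subtype.val hw
    rw [← eq_inv_of_mul_eq_one_right this]
    exact w.2
  have hs0 : (s : K) ≠ 0 := fun h => by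
    obtain ⟨k⟩ := ‹Nonempty ι›
    exact (hs k).ne_zero (Subtype.ext h)
  have hsu : IsUnit s := isUnit_iff_exists_inv.mpr ⟨⟨_, (S.mem_iff _).mpr hinv⟩, Subtype.ext (mul_inv_cancel₀ hs0)⟩
  exact hp.ne_top (p.eq_top_of_isUnit_mem (p.sum_mem fun i _ => hcon i) hsu)

theorem iUnion_range [Nonempty ι] :
    (⋃ i, Set.range (Spec.map (CommRingCat.ofHom (Subring.inclusion (S.le i)))).base) = Set.univ := by
  refine Set.eq_univ_of_forall fun p => Set.mem_iUnion.mpr ?_
  obtain ⟨i, hi⟩ := S.exists_notMem p.asIdeal p.isPrime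
  exact ⟨i, by rw [S.range_eq]; exact hi⟩

include S in
theorem isNoetherianRing [Nonempty ι] : IsNoetherianRing R := by
  classical
  haveI := Fintype.ofFinite ι
  rw [isNoetherianRing_iff_ideal_fg]
  intro J
  have h : ∀ i, ∃ t : Finset R, ↑t ⊆ (J : Set R) ∧
      J.map (Subring.inclusion (S.le i)) ≤ (Ideal.span (t : Set R)).map (Subring.inclusion (S.le i)) := by
    intro i
    haveI := (S.good i).noeth
    obtain ⟨t, ht⟩ := (isNoetherianRing_iff_ideal_fg _).mp (S.good i).noeth (J.map (Subring.inclusion (S.le i)))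
    have hsub : (t : Set (A i)) ⊆ Ideal.span (Subring.inclusion (S.le i) '' (J : Set R)) := by
      intro z hz
      have : z ∈ J.map (Subring.inclusion (S.le i)) := ht ▸ Ideal.subset_span hz
      exact this
    obtain ⟨T, hT, hle⟩ : ∃ T : Finset R, ↑T ⊆ (J : Set R) ∧
        (t : Set (A i)) ⊆ Ideal.span (Subring.inclusion (S.le i) '' (T : Set R)) := by
      choose U hU hmem using fun z : (t : Set (A i)) => Submodule.mem_span_finite_of_mem_span (hsub z.2)
      choose pre hpre heq using fun (z : (t : Set (A i))) (w : U z) => hU z w.2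
      refine ⟨Finset.univ.biUnion fun z => (U z).attach.image (pre z), ?_, fun z hz => ?_⟩
      · intro x hx
        simp only [Finset.coe_biUnion, Set.mem_iUnion, Finset.coe_image, Set.mem_image] at hx
        obtain ⟨z, -, w, -, rfl⟩ := hx
        exact hpre z w
      · refine Submodule.span_mono ?_ (hmem ⟨z, hz⟩)
        intro w hw
        exact ⟨pre ⟨z, hz⟩ ⟨w, hw⟩, Finset.mem_coe.mpr (Finset.mem_biUnion.mpr ⟨⟨z, hz⟩, Finset.mem_univ _,
          Finset.mem_image.mpr ⟨⟨w, hw⟩, Finset.mem_attach _ _, rfl⟩⟩), heq ⟨z, hz⟩ ⟨w, hw⟩⟩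
    refine ⟨T, hT, ?_⟩
    rw [← ht, Ideal.map_span]
    exact Ideal.span_le.mpr hle
  choose t ht hle using h
  refine ⟨Finset.univ.biUnion t, le_antisymm (Ideal.span_le.mpr fun x hx => ?_) fun x hx => ?_⟩
  · simp only [Finset.coe_biUnion, Set.mem_iUnion] at hx
    obtain ⟨i, -, hx⟩ := hx
    exact ht i hx
  · by_contra hx'
    let J' : Ideal R := Ideal.span ↑(Finset.univ.biUnion t)
    let C : Ideal R := Submodule.comap (LinearMap.toSpanSingleton R R x) J'
    have hC : C ≠ ⊤ := fun h => hx' <| by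
      have : (1 : R) ∈ C := h ▸ trivial
      simpa [C, J'] using this
    obtain ⟨m, hm, hCm⟩ := Ideal.exists_le_maximal C hC
    obtain ⟨i, hi⟩ := S.exists_notMem m hm.isPrime
    letI := (Subring.inclusion (S.le i)).toAlgebra
    haveI := S.away i
    have hxi : algebraMap R (A i) x ∈ J'.map (algebraMap R (A i)) :=
      Ideal.map_mono (Ideal.span_mono fun z hz => Finset.mem_coe.mpr
        (Finset.mem_biUnion.mpr ⟨i, Finset.mem_univ _, hz⟩)) (hle i (Ideal.mem_map_of_mem _ hx))
    obtain ⟨_, ⟨n, rfl⟩, hn⟩ :=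
      (IsLocalization.algebraMap_mem_map_algebraMap_iff (Submonoid.powers (S.elt i)) (A i) J' x).mp hxi
    exact hi (hm.isPrime.mem_of_pow_mem n (hCm (by simpa [C] using hn)))

include S in
theorem isFractionRing [Nonempty ι] : IsFractionRing R K := by
  obtain ⟨i⟩ := ‹Nonempty ι›
  haveI := (S.good i).frac
  refine DvrDomLib.isFractionRing_of_closure_eq_top R (eq_top_iff.mpr fun z _ => ?_)
  obtain ⟨p, q, -, rfl⟩ := IsFractionRing.div_surjective (A i) z
  have key : ∀ w : A i, (w : K) ∈ Subfield.closure (R : Set K) := fun w => by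
    obtain ⟨n, hn⟩ := S.exists_pow_mem i w.2
    rw [show (w : K) = (w * S.a i ^ n) / S.a i ^ n by field_simp [S.ne_zero i]]
    exact div_mem (Subfield.subset_closure hn) (pow_mem (Subfield.subset_closure (S.mem i)) n)
  exact div_mem (key p) (key q)

include S in
theorem not_isField [Nonempty ι] : ¬ IsField R := by
  intro h
  obtain ⟨i⟩ := ‹Nonempty ι›
  haveI := S.isFractionRing
  have hall : ∀ z : K, z ∈ R := fun z => by
    obtain ⟨p, q, hq, rfl⟩ := IsFractionRing.div_surjective R z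
    obtain ⟨r, hr⟩ := h.mul_inv_cancel (nonZeroDivisors.ne_zero hq)
    have hr' : (q : K) * r = 1 := congrArg Subtype.val hr
    show (p : K) / q ∈ R
    rw [div_eq_mul_inv, ← eq_inv_of_mul_eq_one_right hr']
    exact R.mul_mem p.2 r.2
  refine (S.good i).not_isField ⟨exists_pair_ne _, mul_comm, fun {x} hx => ?_⟩
  exact ⟨⟨(x : K)⁻¹, S.le i (hall _)⟩, Subtype.ext (mul_inv_cancel₀ (by simpa using hx))⟩

include S in
theorem exists_comap_eq (i : ι) (p : Ideal R) (hp : p.IsPrime) (hi : S.elt i ∉ p) :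
    ∃ P : Ideal (A i), P.IsPrime ∧ P.comap (Subring.inclusion (S.le i)) = p := by
  have : (⟨p, hp⟩ : PrimeSpectrum R) ∈ Set.range (Spec.map (CommRingCat.ofHom (Subring.inclusion (S.le i)))).base := by
    rw [S.range_eq]; exact hi
  obtain ⟨P, hP⟩ := this
  exact ⟨P.asIdeal, P.isPrime, congrArg PrimeSpectrum.asIdeal hP⟩

include S in
theorem isMaximal_of_ne_bot [Nonempty ι] (p : Ideal R) (hp : p.IsPrime) (h : p ≠ ⊥) : p.IsMaximal := by
  obtain ⟨m, hm, hle⟩ := Ideal.exists_le_maximal p hp.ne_top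
  obtain ⟨i, hi⟩ := S.exists_notMem m hm.isPrime
  obtain ⟨P, hP, rfl⟩ := S.exists_comap_eq i p hp fun h => hi (hle h)
  obtain ⟨M, hM, rfl⟩ := S.exists_comap_eq i m hm.isPrime hi
  letI := (Subring.inclusion (S.le i)).toAlgebra
  haveI := S.away i
  have hPM : P ≤ M := by
    rw [← IsLocalization.map_comap (Submonoid.powers (S.elt i)) (A i) P,
      ← IsLocalization.map_comap (Submonoid.powers (S.elt i)) (A i) M]
    exact Ideal.map_mono hle
  have hP0 : P ≠ ⊥ := fun hb => h (by rw [hb]; exact Ideal.comap_bot_of_injective _ (Subring.inclusion_injective _))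
  rw [((S.good i).isMaximal hP hP0).eq_of_le hM.ne_top hPM]
  exact hm

include S in
theorem ringKrullDim_eq [Nonempty ι] : ringKrullDim R = 1 := by
  haveI hle : Ring.KrullDimLE 1 R :=
    Ring.krullDimLE_one_iff_of_noZeroDivisors.mpr fun p h hp => S.isMaximal_of_ne_bot p hp h
  refine le_antisymm (Ring.krullDimLE_iff.mp hle) ?_
  by_contra hcon
  haveI : Ring.KrullDimLE 0 R := Ring.krullDimLE_iff.mpr (by
    rw [not_le] at hcon
    generalize ringKrullDim R = d at hcon ⊢
    induction d using WithBot.recBotCoe with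
    | bot => exact bot_le
    | coe d =>
      rw [← WithBot.coe_one, WithBot.coe_lt_coe, ENat.lt_one_iff_eq_zero] at hcon
      simp [hcon])
  exact S.not_isField (Ring.KrullDimLE.isField_of_isDomain)

include S in
theorem finite_maximalSpectrum [Nonempty ι] : Finite (MaximalSpectrum R) := by
  haveI := fun i => (S.good i).fin
  have h : ∀ m : MaximalSpectrum R, ∃ x : Σ i, MaximalSpectrum (A i),
      x.2.asIdeal.comap (Subring.inclusion (S.le x.1)) = m.asIdeal := by
    intro m
    obtain ⟨i, hi⟩ := S.exists_notMem m.asIdeal m.isMaximal.isPrime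
    obtain ⟨P, hP, hPm⟩ := S.exists_comap_eq i m.asIdeal m.isMaximal.isPrime hi
    refine ⟨⟨i, ⟨P, (S.good i).isMaximal hP fun hb => S.not_isField ?_⟩⟩, hPm⟩
    rw [hb, Ideal.comap_bot_of_injective (Subring.inclusion (S.le i)) (Subring.inclusion_injective _)] at hPm
    exact Ring.isField_iff_isSimpleOrder_ideal.mpr (isSimpleOrder_iff_isCoatom_bot.mpr (hPm ▸ m.isMaximal.out))
  choose f hf using h
  exact Finite.of_injective f fun m m' e => MaximalSpectrum.ext (by rw [← hf m, ← hf m', e])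

theorem existsUnique_mem_range [Nonempty ι] (m : PrimeSpectrum R) (hm : m.asIdeal.IsMaximal) :
    ∃! i, m ∈ Set.range (Spec.map (CommRingCat.ofHom (Subring.inclusion (S.le i)))).base := by
  obtain ⟨i, hi⟩ := S.exists_notMem m.asIdeal m.isPrime
  refine ⟨i, by dsimp only; rw [S.range_eq]; exact hi, fun k hk => ?_⟩
  dsimp only at hk
  rw [S.range_eq] at hk
  by_contra hne
  obtain ⟨P, hP, hPm⟩ := S.exists_comap_eq i m.asIdeal m.isPrime hi
  have hP0 : P ≠ ⊥ := fun hb => by
    rw [hb, Ideal.comap_bot_of_injective (Subring.inclusion (S.le i)) (Subring.inclusion_injective _)] at hPm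
    exact S.not_isField (Ring.isField_iff_isSimpleOrder_ideal.mpr (isSimpleOrder_iff_isCoatom_bot.mpr (hPm ▸ hm.out)))
  apply hk
  show S.elt k ∈ m.asIdeal
  rw [← hPm]
  exact S.rad k i (Ne.symm hne) _ P ((S.good i).isMaximal hP hP0)

theorem isPushout (i k : ι) (h : k ≠ i) :
    IsPushout (CommRingCat.ofHom (Subring.inclusion (S.le k))) (CommRingCat.ofHom (Subring.inclusion (S.le i)))
      (CommRingCat.ofHom (A k).subtype) (CommRingCat.ofHom (A i).subtype) := by
  letI := (Subring.inclusion (S.le i)).toAlgebra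
  haveI : IsLocalization (Submonoid.powers (S.elt i)) (A i) := S.away i
  haveI hloc : IsLocalization.Away (Subring.inclusion (S.le k) (S.elt i)) K := by
    refine IsLocalization.Away.mk _ (isUnit_iff_ne_zero.mpr (S.ne_zero i)) (fun z => ?_) (fun x y e => ⟨0, ?_⟩)
    · obtain ⟨n, hn⟩ := (S.good k).exists_pow_mul_mem (S.le k (S.mem i)) (S.rad i k h _) z
      exact ⟨n, ⟨_, hn⟩, rfl⟩
    · rw [Subtype.ext (e : (x : K) = y)]
  haveI : IsLocalization ((Submonoid.powers (S.elt i)).map (Subring.inclusion (S.le k))) K := by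
    rw [Submonoid.map_powers]; exact hloc
  exact CommRingCat.isPushout_of_isLocalization (Subring.inclusion (S.le k)) (A i).subtype rfl
    (Submonoid.powers (S.elt i))

end Sep

end SemiGlue
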