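import Groth.Agent.DvrDom.Basic
import Mathlib.RingTheory.DedekindDomain.Dvr
import Mathlib.RingTheory.LocalProperties.Semilocal
import Mathlib.RingTheory.KrullDimension.Field
import Mathlib.RingTheory.Valuation.ValuationRing

/-! One-dimensional semilocal Noetherian subrings of a field: elements separating two of them. -/

namespace SemiGlue

open Ideal

universe u

variable {K : Type u} [Field K]

/-- Noetherian, semilocal, one-dimensional, with fraction field `K`. -/
structure Good (A : Subring K) : Prop where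
  frac : IsFractionRing A K
  noeth : IsNoetherianRing A
  dim : ringKrullDim A = 1
  fin : Finite (MaximalSpectrum A)

variable {A B : Subring K}

theorem Good.krull (hA : Good A) : Ring.KrullDimLE 1 A :=
  Ring.krullDimLE_iff.mpr (by simp [hA.dim])

theorem Good.isMaximal (hA : Good A) {p : Ideal A} (hp : p.IsPrime) (h : p ≠ ⊥) : p.IsMaximal :=
  Ring.krullDimLE_one_iff_of_noZeroDivisors.mp hA.krull p h hp

theorem Good.not_isField (hA : Good A) : ¬ IsField A := fun h => by
  letI := h.toField
  have := hA.dim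
  rw [ringKrullDim_eq_zero_of_field] at this
  exact zero_ne_one this

theorem Good.exists_jac (hA : Good A) : ∃ j : A, j ≠ 0 ∧ ∀ m : Ideal A, m.IsMaximal → j ∈ m := by
  classical
  haveI := hA.fin
  haveI := Fintype.ofFinite (MaximalSpectrum A)
  have h : ∀ m : MaximalSpectrum A, ∃ x : A, x ∈ m.asIdeal ∧ x ≠ 0 := fun m =>
    Submodule.exists_mem_ne_zero_of_ne_bot fun hb =>
      hA.not_isField (Ring.isField_iff_isSimpleOrder_ideal.mpr (isSimpleOrder_iff_isCoatom_bot.mpr (hb ▸ m.isMaximal.out)))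
  choose x hx hx0 using h
  exact ⟨∏ m, x m, Finset.prod_ne_zero_iff.mpr fun m _ => hx0 m, fun m hm =>
    m.prod_mem (Finset.mem_univ (⟨m, hm⟩ : MaximalSpectrum A)) (hx ⟨m, hm⟩)⟩

theorem isUnit_one_add {R : Type*} [CommRing R] {j : R} (hj : ∀ m : Ideal R, m.IsMaximal → j ∈ m) :
    IsUnit (1 + j) := by
  by_contra h
  obtain ⟨m, hm, hle⟩ := Ideal.exists_le_maximal _ (mt Ideal.span_singleton_eq_top.mp h)
  exact hm.ne_top (m.eq_top_iff_one.mpr ((add_sub_cancel_right (1 : R) j) ▸
    m.sub_mem (hle (Ideal.subset_span rfl)) (hj m hm)))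

/-- If `a` lies in every maximal ideal of a one-dimensional `B`, then `B[1/a] = K`. -/
theorem Good.exists_pow_mul_mem (hB : Good B) {a : K} (ha : a ∈ B)
    (ham : ∀ m : Ideal B, m.IsMaximal → (⟨a, ha⟩ : B) ∈ m) (z : K) : ∃ n : ℕ, z * a ^ n ∈ B := by
  haveI := hB.frac
  obtain ⟨p, q, hq, rfl⟩ := IsFractionRing.div_surjective B z
  have hq0 : q ≠ 0 := nonZeroDivisors.ne_zero hq
  have : (⟨a, ha⟩ : B) ∈ (Ideal.span {q}).radical := by
    rw [Ideal.radical_eq_sInf, Submodule.mem_sInf]
    rintro P ⟨hle, hP⟩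
    exact ham P (hB.isMaximal hP fun h => hq0 (by simpa [h] using hle (Ideal.subset_span rfl)))
  obtain ⟨n, hn⟩ := this
  obtain ⟨r, hr⟩ := Ideal.mem_span_singleton'.mp hn
  refine ⟨n, ?_⟩
  have hr' : (r : K) * q = a ^ n := by simpa using congrArg Subtype.val hr
  have hq' : (q : K) ≠ 0 := by simpa using hq0
  show (p : K) / q * a ^ n ∈ B
  rw [← hr', show (p : K) / q * (r * q) = p * r by field_simp]
  exact B.mul_mem p.2 r.2

section Valuation

/-- The subalgebra given by a larger subring. -/
def toSubalg {B C : Subring K} (h : B ≤ C) : Subalgebra B K :=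
  { C with algebraMap_mem' := fun b => h b.2 }

theorem Good.noeth_valuation (hB : Good B) (V : ValuationSubring K) (h : B ≤ V.toSubring) :
    IsNoetherianRing V := by
  haveI := hB.frac; haveI := hB.noeth; haveI := hB.krull
  exact @isNoetherianRing_of_ringEquiv (toSubalg h) _ V _ (RingEquiv.refl _)
    (DvrDomLib.isNoetherianRing_of_between (toSubalg h))

theorem exists_pow_lt (V : ValuationSubring K) [IsNoetherianRing V] {y j : K}
    (hy : 1 < V.valuation y) : ∃ N : ℕ, ∀ n, N ≤ n → V.valuation j < V.valuation y ^ n := by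
  by_contra hcon
  push Not at hcon
  have hy0 : y ≠ 0 := fun h => by simp [h] at hy
  have hle : ∀ n, V.valuation y ^ n ≤ V.valuation j := fun n => by
    obtain ⟨m, hm, hm'⟩ := hcon n
    exact (pow_le_pow_right₀ hy.le hm).trans hm'
  have hj0 : j ≠ 0 := fun h => by simpa [h] using hle 0
  have hyi : y⁻¹ ∈ V := by
    rw [← V.valuation_le_one_iff, map_inv₀]
    exact inv_le_one_of_one_le₀ hy.le
  have hji : j⁻¹ ∈ V := by
    rw [← V.valuation_le_one_iff, map_inv₀]
    exact inv_le_one_of_one_le₀ (by simpa using hle 0)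
  have hne : Ideal.span {(⟨y⁻¹, hyi⟩ : V)} ≠ ⊤ := by
    rw [Ne, Ideal.span_singleton_eq_top]
    intro hu
    have := (V.valuation_eq_one_iff ⟨y⁻¹, hyi⟩).mp hu
    rw [map_inv₀, inv_eq_one] at this
    exact hy.ne' this
  have hmem : (⟨j⁻¹, hji⟩ : V) ∈ ⨅ n : ℕ, Ideal.span {(⟨y⁻¹, hyi⟩ : V)} ^ n := by
    rw [Submodule.mem_iInf]
    intro n
    rw [Ideal.span_singleton_pow, Ideal.mem_span_singleton']
    have hv : y ^ n * j⁻¹ ∈ V := by
      rw [← V.valuation_le_one_iff, map_mul, map_pow, map_inv₀, ← div_eq_mul_inv]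
      exact div_le_one_of_le₀ (hle n) zero_le
    refine ⟨⟨_, hv⟩, Subtype.ext ?_⟩
    simp [inv_pow]
    field_simp
  have e := Ideal.iInf_pow_eq_bot_of_isDomain _ hne
  have h0 : (⟨j⁻¹, hji⟩ : V) = 0 := Ideal.mem_bot.mp (e.le hmem)
  exact inv_ne_zero hj0 (congrArg Subtype.val h0)

theorem Good.le_of_jac (hA : Good A) (V : ValuationSubring K) [IsNoetherianRing V]
    (h : ∀ j : A, (∀ m : Ideal A, m.IsMaximal → j ∈ m) → (j : K) ∈ V) : A ≤ V.toSubring := by
  intro x hx
  show x ∈ V
  rw [← V.valuation_le_one_iff]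
  by_contra hlt
  obtain ⟨j, hj0, hj⟩ := hA.exists_jac
  have hjK : (j : K) ≠ 0 := by simpa using hj0
  obtain ⟨N, hN⟩ := exists_pow_lt V (j := (j : K)⁻¹) (not_le.mp hlt)
  have := (V.valuation_le_one_iff _).mpr (h (j * ⟨x, hx⟩ ^ N) fun m hm => m.mul_mem_right _ (hj m hm))
  simp only [MulMemClass.coe_mul, SubmonoidClass.coe_pow, map_mul, map_pow] at this
  have h1 := hN N le_rfl
  rw [map_inv₀, inv_lt_iff_one_lt_mul₀ (zero_lt_iff.mpr (by simpa using hjK))] at h1
  exact absurd this (not_le.mpr (by simpa [mul_comm] using h1))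

/-- Finitely many valuations lie over a good subring. -/
theorem Good.finite_valuations (hB : Good B) :
    {V : ValuationSubring K | B ≤ V.toSubring ∧ V ≠ ⊤}.Finite := by
  classical
  haveI := hB.frac; haveI := hB.noeth; haveI := hB.krull
  obtain ⟨j, hj0, hj⟩ := hB.exists_jac
  let C := integralClosure B K
  haveI : IsNoetherianRing C := DvrDomLib.isNoetherianRing_of_between C
  haveI : IsFractionRing C K := integralClosure.isFractionRing_of_finite_extension K K
  haveI : Ring.DimensionLEOne B := ⟨fun {p} h hp => hB.isMaximal hp h⟩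
  haveI : IsIntegrallyClosed C := integralClosure.isIntegrallyClosedOfFiniteExtension K
  haveI : IsDedekindDomain C := { }
  let jC : C := algebraMap B C j
  have hjC : jC ≠ 0 := fun h => hj0 (Subtype.ext (show (j : K) = 0 from congrArg Subtype.val h))
  -- the centre
  have hCV : ∀ V : ValuationSubring K, B ≤ V.toSubring → ∀ c : C, (c : K) ∈ V := by
    intro V hV c
    haveI : IsIntegrallyClosed V := inferInstance
    have hc : IsIntegral B (c : K) := c.2
    letI : Algebra B V := (Subring.inclusion hV).toAlgebra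
    haveI : IsScalarTower B V K := IsScalarTower.of_algebraMap_eq fun _ => rfl
    obtain ⟨y, hy⟩ := IsIntegrallyClosed.isIntegral_iff.mp (hc.tower_top (A := V))
    exact hy ▸ y.2
  let F : {V : ValuationSubring K | B ≤ V.toSubring ∧ V ≠ ⊤} → Ideal C := fun V =>
    (IsLocalRing.maximalIdeal V.1).comap
      (Subring.inclusion (show C.toSubring ≤ V.1.toSubring from fun c hc => hCV V.1 V.2.1 ⟨c, hc⟩))
  have hF : ∀ V c, c ∈ F V ↔ V.1.valuation (c : K) < 1 := fun V c =>
    (V.1.valuation_lt_one_iff ⟨c, _⟩)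
  have hFmin : ∀ V, F V ∈ (Ideal.span {jC}).minimalPrimes := by
    intro V
    haveI hpr : (F V).IsPrime := Ideal.IsPrime.comap _
    have hne : F V ≠ ⊥ := by
      intro hb
      apply V.2.2
      rw [eq_top_iff]
      intro z _
      by_contra hz
      obtain ⟨p, q, hq, rfl⟩ := IsFractionRing.div_surjective C z
      rw [← V.1.valuation_le_one_iff, not_le, map_div₀] at hz
      have hq1 : V.1.valuation (q : K) < 1 := by
        by_contra hcon
        rw [not_lt] at hcon
        exact absurd hz (not_lt.mpr (div_le_one_of_le₀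
          (((V.1.valuation_le_one_iff _).mpr (hCV _ V.2.1 p)).trans hcon) zero_le))
      have := (hF V q).mpr hq1
      rw [hb, Ideal.mem_bot] at this
      exact nonZeroDivisors.ne_zero hq this
    haveI hmax : (F V).IsMaximal := hpr.isMaximal hne
    have hcm : ((F V).comap (algebraMap B C)).IsMaximal :=
      Ideal.isMaximal_comap_of_isIntegral_of_isMaximal (R := B) (F V)
    refine ⟨⟨hpr, (Ideal.span_singleton_le_iff_mem _).mpr (hj _ hcm)⟩, fun q ⟨hq, hjq⟩ hle => ?_⟩
    have hq0 : q ≠ ⊥ := fun h => hjC (by simpa [h] using hjq (Ideal.subset_span rfl))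
    exact ((hq.isMaximal hq0).eq_of_le hpr.ne_top hle).ge
  have hinj : Function.Injective F := by
    intro V W hVW
    haveI hpr : (F V).IsPrime := Ideal.IsPrime.comap _
    let L := Localization.AtPrime (F V)
    have hF0 : F V ≠ ⊥ := fun h => hjC (by simpa [h] using (hFmin V).1.2 (Ideal.subset_span rfl))
    haveI : IsDiscreteValuationRing L :=
      IsLocalization.AtPrime.isDiscreteValuationRing_of_dedekind_domain C hF0 L
    have key : ∀ x y : C, algebraMap C L x ∣ algebraMap C L y →
        ∃ r s : C, s ∉ F V ∧ (x : K) * r = y * s := by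
      rintro x y ⟨c, hc⟩
      obtain ⟨⟨r, s⟩, hs⟩ := IsLocalization.surj (F V).primeCompl c
      refine ⟨r, s, s.2, ?_⟩
      have : algebraMap C L (x * r) = algebraMap C L (y * s) := by
        rw [map_mul, map_mul, hc, ← hs, mul_assoc]
      have := congrArg Subtype.val (IsLocalization.injective L (F V).primeCompl_le_nonZeroDivisors this)
      simpa using this
    apply Subtype.ext
    refine SetLike.ext fun z => ?_
    obtain ⟨x, y, hy, rfl⟩ := IsFractionRing.div_surjective C z
    by_cases hx : (x : K) = 0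
    · show (x : K) / y ∈ V.1 ↔ (x : K) / y ∈ W.1
      simp [hx, zero_mem]
    have hy' : (y : K) ≠ 0 := by simpa using nonZeroDivisors.ne_zero hy
    have val1 : ∀ (U : {V : ValuationSubring K | B ≤ V.toSubring ∧ V ≠ ⊤}) (s : C), F U = F V →
        s ∉ F V → U.1.valuation (s : K) = 1 := fun U s hU hs =>
      le_antisymm ((U.1.valuation_le_one_iff _).mpr (hCV _ U.2.1 s))
        (not_lt.mp fun h => hs (hU ▸ (hF U s).mpr h))
    show (x : K) / y ∈ V.1 ↔ (x : K) / y ∈ W.1
    have hvr : ValuationRing L := inferInstance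
    obtain ⟨c, hcase⟩ := hvr.cond' (algebraMap C L x) (algebraMap C L y)
    rcases hcase.imp (fun e => Dvd.intro c e) (fun e => Dvd.intro c e) with h | h
    · obtain ⟨r, s, hs, e⟩ := key x y h
      have crit : ∀ U, F U = F V → ((x : K) / y ∈ U.1 ↔ r ∉ F V) := by
        intro U hU
        have e' := congrArg U.1.valuation e
        rw [map_mul, map_mul, val1 U s hU hs, mul_one] at e'
        rw [← U.1.valuation_le_one_iff, map_div₀, ← e']
        have hx' : U.1.valuation (x : K) ≠ 0 := by simpa using hx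
        rw [div_mul_cancel_left₀ hx']
        constructor
        · intro hle hr
          have hlt := (hF U r).mp (hU.symm ▸ hr)
          have hr0 : 0 < U.1.valuation (r : K) := zero_lt_iff.mpr fun h0 => by
            have hy0 : U.1.valuation (y : K) ≠ 0 := by simpa using hy'
            exact hy0 (by rw [← e', h0, mul_zero])
          exact absurd hle (not_le.mpr ((one_lt_inv₀ hr0).mpr hlt))
        · intro hr
          rw [val1 U r hU hr, inv_one]
      rw [crit V rfl, crit W hVW.symm]
    · obtain ⟨r, s, hs, e⟩ := key y x h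
      have crit : ∀ U, F U = F V → (x : K) / y ∈ U.1 := by
        intro U hU
        have e' := congrArg U.1.valuation e
        rw [map_mul, map_mul, val1 U s hU hs, mul_one] at e'
        rw [← U.1.valuation_le_one_iff, map_div₀, ← e', mul_div_cancel_left₀ _ (by simpa using hy')]
        exact (U.1.valuation_le_one_iff _).mpr (hCV _ U.2.1 r)
      exact iff_of_true (crit V rfl) (crit W hVW.symm)
  haveI : Finite (Ideal.span {jC}).minimalPrimes :=
    (Ideal.finite_minimalPrimes_of_isNoetherianRing C _).to_subtype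
  exact Set.finite_coe_iff.mp (Finite.of_injective (fun V => (⟨F V, hFmin V⟩ : (Ideal.span {jC}).minimalPrimes))
    fun V W h => hinj (congrArg Subtype.val h))

theorem Good.exists_jac_valuation (hA : Good A) (s : Finset (ValuationSubring K))
    (hs : ∀ V ∈ s, IsNoetherianRing V ∧ ¬ A ≤ V.toSubring) :
    ∃ y : A, (∀ m : Ideal A, m.IsMaximal → y ∈ m) ∧ ∀ V ∈ s, 1 < V.valuation (y : K) := by
  classical
  induction s using Finset.induction with
  | empty => exact ⟨0, fun m _ => m.zero_mem, by simp⟩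
  | insert V t hVt ih =>
    obtain ⟨hVn, hAV⟩ := hs V (Finset.mem_insert_self _ _)
    obtain ⟨y, hy, hyt⟩ := ih fun W hW => hs W (Finset.mem_insert_of_mem hW)
    by_cases hyV : 1 < V.valuation (y : K)
    · exact ⟨y, hy, fun W hW => (Finset.mem_insert.mp hW).elim (fun h => h ▸ hyV) (hyt W)⟩
    obtain ⟨j, hj, hjV⟩ : ∃ j : A, (∀ m : Ideal A, m.IsMaximal → j ∈ m) ∧ 1 < V.valuation (j : K) := by
      by_contra hcon
      push Not at hcon
      haveI := hVn
      exact hAV (hA.le_of_jac V fun j hj => (V.valuation_le_one_iff _).mp (hcon j hj))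
    have hN : ∀ W ∈ t, ∃ N : ℕ, ∀ n, N ≤ n → W.valuation (j : K) < W.valuation (y : K) ^ n := fun W hW => by
      haveI := (hs W (Finset.mem_insert_of_mem hW)).1
      exact exists_pow_lt W (hyt W hW)
    choose! N hN using hN
    let n := t.sup N + 1
    refine ⟨y ^ n + j, fun m hm => m.add_mem (m.pow_mem_of_mem (hy m hm) n (by omega)) (hj m hm), fun W hW => ?_⟩
    simp only [AddMemClass.coe_add, SubmonoidClass.coe_pow]
    rcases Finset.mem_insert.mp hW with rfl | hW
    · rw [Valuation.map_add_eq_of_lt_right _ (by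
        rw [map_pow]; exact (pow_le_one₀ zero_le (not_lt.mp hyV)).trans_lt hjV)]
      exact hjV
    · have := hN W hW n ((Finset.le_sup hW).trans (Nat.le_succ _))
      rw [Valuation.map_add_eq_of_lt_left _ (by rwa [map_pow]), map_pow]
      exact one_lt_pow₀ (hyt W hW) (by omega)

/-- An element in all nontrivial valuation ideals above `B` has large powers in the radical of `B`. -/
theorem Good.exists_pow_jac (hB : Good B) {a : K}
    (ha : ∀ V : ValuationSubring K, B ≤ V.toSubring → V ≠ ⊤ → V.valuation a < 1) :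
    ∃ N : ℕ, ∀ n, N ≤ n → ∃ h : a ^ n ∈ B, ∀ m : Ideal B, m.IsMaximal → (⟨a ^ n, h⟩ : B) ∈ m := by
  classical
  haveI := hB.frac; haveI := hB.noeth
  have hint : IsIntegral B a := by
    have h1 : a ∈ (⨅ V : {V : ValuationSubring K // (B : Set K) ⊆ V.toSubring}, V.1.toSubring : Subring K) := by
      rw [Subring.mem_iInf]
      intro V
      show a ∈ V.1
      by_cases h : V.1 = ⊤
      · rw [h]; exact ValuationSubring.mem_top a
      · exact (V.1.valuation_le_one_iff a).mp (ha V.1 V.2 h).le
    rw [iInf_valuationSubring_superset] at h1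
    obtain ⟨p, hp, hpa⟩ := h1
    refine ⟨p.map (Subring.inclusion (Subring.closure_eq B).le), hp.map _, ?_⟩
    rw [Polynomial.eval₂_map]
    exact hpa
  let S := Algebra.adjoin B ({a} : Set K)
  obtain ⟨t, ht⟩ := hint.fg_adjoin_singleton
  obtain ⟨⟨c, hc⟩, hct⟩ := IsLocalization.exist_integer_multiples_of_finset (nonZeroDivisors B) t
  have hc0 : c ≠ 0 := nonZeroDivisors.ne_zero hc
  have hcS : ∀ z ∈ S, (c : K) * z ∈ B := by
    intro z hz
    have hz' : z ∈ Submodule.span B (t : Set K) := ht ▸ hz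
    clear hz
    induction hz' using Submodule.span_induction with
    | mem x hx =>
      obtain ⟨w, hw⟩ := hct x hx
      have : (w : K) = (c : K) * x := hw.trans (Algebra.smul_def _ _)
      exact this ▸ w.2
    | zero => simp
    | add x y hx hy h1 h2 => rw [mul_add]; exact B.add_mem h1 h2
    | smul r x hx h1 =>
      rw [Subring.smul_def, smul_eq_mul, mul_left_comm]
      exact B.mul_mem r.2 h1
  let aS : S := ⟨a, Algebra.subset_adjoin rfl⟩
  haveI : Algebra.IsIntegral B S := ⟨fun x => (isIntegral_algHom_iff S.val Subtype.val_injective).mp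
    ((Algebra.adjoin_le (S := integralClosure B K) (Set.singleton_subset_iff.mpr hint)) x.2)⟩
  have hmax : ∀ M : Ideal S, M.IsPrime → M ≠ ⊥ → aS ∈ M ∧ M.IsMaximal := by
    intro M hM hM0
    have hcomap : (M.comap (algebraMap B S)) ≠ ⊥ := by
      intro h
      exact hM0 (Ideal.eq_bot_of_comap_eq_bot h)
    haveI : (M.comap (algebraMap B S)).IsMaximal := hB.isMaximal (Ideal.IsPrime.comap _) hcomap
    have hMmax : M.IsMaximal := Ideal.isMaximal_of_isIntegral_of_isMaximal_comap M this
    refine ⟨?_, hMmax⟩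
    obtain ⟨V, hV, hMV⟩ := Ideal.image_subset_nonunits_valuationSubring (A := S.toSubring) M hM.ne_top
    obtain ⟨w, hw, hw0⟩ := Submodule.exists_mem_ne_zero_of_ne_bot hM0
    have hVtop : V ≠ ⊤ := by
      intro h
      have : ((w : K)) ∈ V.nonunits := hMV ⟨w, hw, rfl⟩
      rw [ValuationSubring.mem_nonunits_iff_or] at this
      rcases this with h' | h'
      · exact hw0 (Subtype.ext h')
      · exact h' (h ▸ ValuationSubring.mem_top _)
    have hlt := ha V (fun b hb => hV (S.algebraMap_mem ⟨b, hb⟩)) hVtop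
    by_contra hnot
    obtain ⟨u, v, hv, huv⟩ := hMmax.exists_inv hnot
    have h2 : V.valuation ((u : K) * a) < 1 := by
      rw [map_mul]
      exact (mul_le_of_le_one_left' ((V.valuation_le_one_iff _).mpr (hV u.2))).trans_lt hlt
    have h1 : V.valuation (v : K) < 1 := (ValuationSubring.mem_nonunits_iff V).mp (hMV ⟨v, hv, rfl⟩)
    have h3 : V.valuation ((u : K) * a + v) < 1 := V.valuation.map_add_lt h2 h1
    rw [show (u : K) * a + v = 1 from congrArg Subtype.val huv, map_one] at h3
    exact lt_irrefl _ h3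
  have hrad : aS ∈ (Ideal.span {algebraMap B S c}).radical := by
    rw [Ideal.radical_eq_sInf, Submodule.mem_sInf]
    rintro P ⟨hle, hP⟩
    refine (hmax P hP fun h => hc0 ?_).1
    have := hle (Ideal.subset_span rfl)
    rw [h, Ideal.mem_bot] at this
    exact Subtype.ext (congrArg Subtype.val this : (c : K) = 0)
  obtain ⟨N, hN⟩ := hrad
  refine ⟨N + 1, fun n hn => ?_⟩
  obtain ⟨r, hr⟩ := Ideal.mem_span_singleton'.mp (Ideal.pow_mem_of_pow_mem _ hN (by omega : N ≤ n))
  have hr' : (r : K) * c = a ^ n := congrArg Subtype.val hr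
  have hmem : a ^ n ∈ B := by rw [← hr', mul_comm]; exact hcS r r.2
  refine ⟨hmem, fun m hm => ?_⟩
  obtain ⟨M, -, hMm⟩ := Ideal.exists_ideal_over_prime_of_isIntegral m (⊥ : Ideal S) (by
    intro x hx
    rw [Ideal.mem_comap, Ideal.mem_bot] at hx
    have : x = 0 := Subtype.ext (congrArg Subtype.val hx : (x : K) = 0)
    simp [this])
  obtain ⟨hMp, hMm⟩ := hMm
  have hM0 : M ≠ ⊥ := by
    intro h
    apply hB.not_isField
    have hm0 : m = ⊥ := by
      rw [← hMm, h, eq_bot_iff]
      intro x hx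
      rw [Ideal.mem_comap, Ideal.mem_bot] at hx
      exact Ideal.mem_bot.mpr (Subtype.ext (congrArg Subtype.val hx : (x : K) = 0))
    exact Ring.isField_iff_isSimpleOrder_ideal.mpr (isSimpleOrder_iff_isCoatom_bot.mpr (hm0 ▸ hm.out))
  rw [← hMm, Ideal.mem_comap, show algebraMap B S ⟨a ^ n, hmem⟩ = aS ^ n from Subtype.ext rfl]
  exact M.pow_mem_of_mem (hmax M hMp hM0).1 n (by omega)

end Valuation

/-- A unit of `A` lying in the radical of every `B i`. -/
theorem Good.exists_separating (hA : Good A) {ι : Type*} [Finite ι] (Bs : ι → Subring K)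
    (hBs : ∀ i, Good (Bs i)) (hgen : ∀ i, A ⊔ Bs i = ⊤) :
    ∃ a : K, a ∈ A ∧ a⁻¹ ∈ A ∧ a ≠ 0 ∧
      ∀ i, ∃ h : a ∈ Bs i, ∀ m : Ideal (Bs i), m.IsMaximal → (⟨a, h⟩ : Bs i) ∈ m := by
  classical
  haveI := Fintype.ofFinite ι
  let s : Finset (ValuationSubring K) := Finset.univ.biUnion fun i => (hBs i).finite_valuations.toFinset
  have hmem : ∀ V, V ∈ s ↔ ∃ i, Bs i ≤ V.toSubring ∧ V ≠ ⊤ := fun V => by simp [s]
  obtain ⟨y, hy, hyV⟩ := hA.exists_jac_valuation s fun V hV => by
    obtain ⟨i, hi, htop⟩ := (hmem V).mp hV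
    refine ⟨(hBs i).noeth_valuation V hi, fun hle => htop ?_⟩
    rw [eq_top_iff]
    intro z _
    have h := sup_le hle hi
    rw [hgen i] at h
    exact h (Subring.mem_top z)
  obtain ⟨w, hw⟩ := isUnit_one_add hy
  let a : K := ((↑w⁻¹ : A) : K)
  have haA : a ∈ A := (↑w⁻¹ : A).2
  have hinv : ((1 + y : A) : K) * a = 1 := by
    rw [← hw]; exact congrArg Subtype.val w.mul_inv
  have ha : a⁻¹ = ((1 + y : A) : K) := (eq_inv_of_mul_eq_one_left hinv).symm
  have hpow : ∀ i, ∃ N : ℕ, ∀ n, N ≤ n →
      ∃ h : a ^ n ∈ Bs i, ∀ m : Ideal (Bs i), m.IsMaximal → (⟨a ^ n, h⟩ : Bs i) ∈ m := fun i =>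
    (hBs i).exists_pow_jac fun V hV htop => by
      have h1 := hyV V ((hmem V).mpr ⟨i, hV, htop⟩)
      have h2 : V.valuation ((1 + y : A) : K) = V.valuation (y : K) := by
        show V.valuation (1 + (y : K)) = _
        exact Valuation.map_add_eq_of_lt_right _ (by rwa [map_one])
      rw [← inv_inv a, ha, map_inv₀, h2]
      exact inv_lt_one_of_one_lt₀ h1
  choose N hN using hpow
  let n := ∑ i, N i
  refine ⟨a ^ n, A.pow_mem haA n, ?_, pow_ne_zero n fun h => by simp [h] at hinv, fun i => ?_⟩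
  · rw [← inv_pow, ha]; exact A.pow_mem (1 + y : A).2 n
  · exact hN i n (Finset.single_le_sum (fun i _ => Nat.zero_le (N i)) (Finset.mem_univ i))

end SemiGlue
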