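import Groth.Agent.SemiGlue.Glue

/-! A semilocal subring and a discrete valuation ring. -/

namespace SemiGlue

universe u

variable {K : Type u} [Field K] {A : Subring K} (B : ValuationSubring K) [IsDiscreteValuationRing B]

theorem good_dvr : Good B.toSubring where
  frac := (inferInstance : IsFractionRing B K)
  noeth := (inferInstance : IsNoetherianRing B)
  dim := by
    show ringKrullDim B = 1
    refine le_antisymm (Ring.krullDimLE_iff.mp inferInstance) ?_
    by_contra hcon
    have : Ring.KrullDimLE 0 B := Ring.krullDimLE_iff.mpr (by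
      rw [not_le] at hcon
      generalize ringKrullDim B = d at hcon ⊢
      induction d using WithBot.recBotCoe with
      | bot => exact bot_le
      | coe d =>
        rw [← WithBot.coe_one, WithBot.coe_lt_coe, ENat.lt_one_iff_eq_zero] at hcon
        simp [hcon])
    exact IsDiscreteValuationRing.not_isField B Ring.KrullDimLE.isField_of_isDomain
  fin := by
    show Finite (MaximalSpectrum B)
    have : Subsingleton (MaximalSpectrum B) := ⟨fun m n => MaximalSpectrum.ext
      ((IsLocalRing.eq_maximalIdeal m.isMaximal).trans (IsLocalRing.eq_maximalIdeal n.isMaximal).symm)⟩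
    exact Finite.of_subsingleton

theorem sup_eq_top (h : ∃ u : A, IsUnit u ∧ (u : K) ∉ B) : A ⊔ B.toSubring = ⊤ := by
  obtain ⟨u, -, hu⟩ := h
  rw [eq_top_iff]
  intro z _
  have hinv : (u : K)⁻¹ ∈ B := (B.mem_or_inv_mem _).resolve_left hu
  have hrad : ∀ m : Ideal B.toSubring, m.IsMaximal → (⟨(u : K)⁻¹, hinv⟩ : B.toSubring) ∈ m := by
    intro m hm
    have hm' : m = IsLocalRing.maximalIdeal B := IsLocalRing.eq_maximalIdeal (R := B) hm
    show (⟨(u : K)⁻¹, hinv⟩ : B) ∈ (m : Ideal B)
    rw [hm', B.valuation_lt_one_iff ⟨(u : K)⁻¹, hinv⟩, map_inv₀]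
    exact inv_lt_one_of_one_lt₀ (not_le.mp (mt (B.valuation_le_one_iff _).mp hu))
  obtain ⟨n, hn⟩ := (good_dvr B).exists_pow_mul_mem hinv hrad z
  have hu0 : (u : K) ≠ 0 := fun h0 => hu (h0 ▸ B.zero_mem)
  rw [show z = z * (u : K)⁻¹ ^ n * (u : K) ^ n by rw [mul_assoc, ← mul_pow, inv_mul_cancel₀ hu0, one_pow, mul_one]]
  exact Subring.mul_mem _ ((le_sup_right : B.toSubring ≤ A ⊔ B.toSubring) hn)
    ((le_sup_left : A ≤ A ⊔ B.toSubring) (A.pow_mem u.2 n))

theorem dominated (hA : Good A) (h : ∀ u : A, IsUnit u → (u : K) ∈ B) :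
    ∃ hle : A ≤ B.toSubring,
      (Ideal.comap (Subring.inclusion hle) (IsLocalRing.maximalIdeal B)).IsMaximal ∧ A ⊔ B.toSubring ≠ ⊤ := by
  have hle : A ≤ B.toSubring := hA.le_of_jac B fun j hj => by
    have := B.toSubring.sub_mem (h _ (isUnit_one_add hj)) B.one_mem
    simpa using this
  have hBtop : B.toSubring ≠ ⊤ := fun htop => IsDiscreteValuationRing.not_isField B
    ⟨exists_pair_ne _, mul_comm, fun {x} hx => ⟨⟨(x : K)⁻¹, show (x : K)⁻¹ ∈ B.toSubring from htop ▸ Subring.mem_top _⟩,
      Subtype.ext (mul_inv_cancel₀ (by simpa using hx))⟩⟩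
  refine ⟨hle, hA.isMaximal (Ideal.IsPrime.comap _) fun hb => hBtop ?_, fun htop => hBtop ?_⟩
  · haveI := hA.frac
    rw [eq_top_iff]
    intro z _
    obtain ⟨p, q, hq, rfl⟩ := IsFractionRing.div_surjective A z
    by_cases hu : IsUnit (Subring.inclusion hle q)
    · obtain ⟨w, hw⟩ := isUnit_iff_exists_inv.mp hu
      have : (q : K) * w = 1 := congrArg Subtype.val hw
      show (p : K) / q ∈ B.toSubring
      rw [div_eq_mul_inv, ← eq_inv_of_mul_eq_one_right this]
      exact B.toSubring.mul_mem (hle p.2) w.2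
    · have hmem : q ∈ Ideal.comap (Subring.inclusion hle) (IsLocalRing.maximalIdeal B) := hu
      rw [hb, Ideal.mem_bot] at hmem
      exact absurd hmem (nonZeroDivisors.ne_zero hq)
  · rwa [sup_eq_right.mpr hle] at htop

end SemiGlue
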